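import Groth.Agent.L27.AffineEfface.Core
import Groth.Agent.L27.LimCoh.HMaps
import Groth.Agent.L27.CompTransfer.Torsion
import Groth.Agent.L28.ExtShriek.IndConstr
import Groth.Agent.L28.ColimBig.Cohomology
import Groth.Agent.L28.CurveCd.FieldVanish
import Mathlib.CategoryTheory.Abelian.Basic

/-! # Effacement of torsion classes on closed subschemes of affine schemes; the affine analogue of proper base change -/

universe u

open CategoryTheory CategoryTheory.Limits AlgebraicGeometry Opposite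

set_option autoImplicit false
set_option linter.style.haveILetI false
set_option linter.unusedSectionVars false
set_option backward.isDefEq.respectTransparency.types false

namespace Groth.L27.AffineEfface

noncomputable section

variable {X : Scheme.{u}}

theorem isLTorsion_univ {F : EtCoh.Ab X} (hF : EtCoh.IsTorsion F) : EtAcyc.IsLTorsion Set.univ F := fun U s x => by
  obtain ⟨V, g, hv, hfin⟩ := hF U s x
  obtain ⟨n, hn, hns⟩ := hfin.exists_nsmul_eq_zero
  exact ⟨V, g, n, hv, ⟨hn, fun p _ _ => Set.mem_univ p⟩, hns⟩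

theorem isTorsion_of_isLTorsion {L : Set ℕ} {F : EtCoh.Ab X} (hF : EtAcyc.IsLTorsion L F) :
    EtCoh.IsTorsion F := fun U s x => by
  obtain ⟨V, g, n, hv, hn, hns⟩ := hF U s x
  exact ⟨V, g, hv, isOfFinAddOrder_iff_nsmul_eq_zero.2 ⟨n, hn.1, hns⟩⟩

/-- A quotient of two torsion sheaves is torsion. -/
theorem isTorsion_of_epi_desc {F G Q : EtCoh.Ab X} (a : F ⟶ Q) (b : G ⟶ Q) [Epi (biprod.desc a b)]
    (hF : EtCoh.IsTorsion F) (hG : EtCoh.IsTorsion G) : EtCoh.IsTorsion Q := by
  refine isTorsion_of_isLTorsion (L := Set.univ) (L28.EtTor.isLTorsion_iff_stalks.2 fun Ω _ _ ξ t => ?_)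
  haveI : (EtCoh.stalk ξ).Additive := Functor.additive_of_preserves_binary_products _
  obtain ⟨w, rfl⟩ := (EtSite.epi_iff_stalks (biprod.desc a b)).1 inferInstance Ω ξ t
  obtain ⟨m, hm, hm0⟩ := L28.EtTor.isLTorsion_iff_stalks.1 (isLTorsion_univ hF) Ω ξ
    ((EtCoh.stalk ξ).map biprod.fst w)
  obtain ⟨k, hk, hk0⟩ := L28.EtTor.isLTorsion_iff_stalks.1 (isLTorsion_univ hG) Ω ξ
    ((EtCoh.stalk ξ).map biprod.snd w)
  have e : (EtCoh.stalk ξ).map (biprod.desc a b) =
      (EtCoh.stalk ξ).map biprod.fst ≫ (EtCoh.stalk ξ).map a +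
        (EtCoh.stalk ξ).map biprod.snd ≫ (EtCoh.stalk ξ).map b := by
    rw [← Functor.map_comp, ← Functor.map_comp, ← Functor.map_add, biprod.desc_eq]
  refine ⟨m * k, ⟨Nat.mul_pos hm.1 hk.1, fun p _ _ => Set.mem_univ p⟩, ?_⟩
  rw [e]
  show (m * k) • ((EtCoh.stalk ξ).map a ((EtCoh.stalk ξ).map biprod.fst w) +
    (EtCoh.stalk ξ).map b ((EtCoh.stalk ξ).map biprod.snd w)) = 0
  have ha : (m * k) • (EtCoh.stalk ξ).map biprod.fst w = 0 := by rw [mul_comm, mul_nsmul', hm0, smul_zero]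
  have hb : (m * k) • (EtCoh.stalk ξ).map biprod.snd w = 0 := by rw [mul_nsmul', hk0, smul_zero]
  rw [nsmul_add]
  exact (congrArg₂ (· + ·) ((map_nsmul _ _ _).symm.trans ((congrArg _ ha).trans (map_zero _)))
    ((map_nsmul _ _ _).symm.trans ((congrArg _ hb).trans (map_zero _)))).trans (add_zero _)

/-- Torsion classes on a closed subscheme of an affine scheme are effaced by torsion sheaves. -/
theorem exists_effacement {Z : Scheme.{u}} [IsAffine X] (i : Z ⟶ X) [IsClosedImmersion i]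
    (F : EtCoh.Ab X) (hF : EtCoh.IsTorsion F) (q : ℕ) (hq : 0 < q)
    (ξ : EtCoh.H Z ((EtCoh.pull i).obj F) q) :
    ∃ (F' : EtCoh.Ab X) (_ : EtCoh.IsTorsion F') (φ : F ⟶ F') (_ : Mono φ),
      Sheaf.H.map ((EtCoh.pull i).map φ) q ξ = 0 := by
  haveI : IsAffine Z := isAffine_of_isAffineHom i
  haveI : CompactSpace Z := inferInstance
  haveI : QuasiSeparatedSpace Z := inferInstance
  obtain ⟨hc⟩ := L28.ExtShriek.isColimit_presCocone (F := F) hF
  haveI : PreservesColimitsOfSize.{u + 1, u + 1} (EtCoh.pull i) :=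
    (EtCoh.pullPushAdj i).leftAdjoint_preservesColimits
  obtain ⟨⟨j, η, hη⟩⟩ : Nonempty (Σ' (j : L28.ExtShriek.PresOver F)
      (η : Sheaf.H ((EtCoh.pull i).obj ((L28.ExtShriek.presDiag F).obj j)) q),
      Sheaf.H.map ((EtCoh.pull i).map ((L28.ExtShriek.presCocone F).ι.app j)) q η = ξ) := by
    obtain ⟨j, η, hη⟩ := (L28.ColimBig.commutes Colim.good (EtCore.topIsTerminal Z) ⟨‹_›, ‹_›⟩ q
      (L28.ExtShriek.presDiag F ⋙ EtCoh.pull i) ((EtCoh.pull i).mapCocone (L28.ExtShriek.presCocone F))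
      (isColimitOfPreserves (EtCoh.pull i) hc)).1 ξ
    exact ⟨⟨j, η, hη⟩⟩
  obtain ⟨G, φ, _, hG, -, hGi⟩ := exists_mono_acyclic j.1.isConstructible_obj
  let c : j.1.obj ⟶ F := (L28.ExtShriek.presCocone F).ι.app j
  refine ⟨pushout c φ, ?_, pushout.inl c φ, inferInstance, ?_⟩
  · haveI : Epi (biprod.desc (pushout.inl c φ) (pushout.inr c φ)) := ⟨fun g h e => pushout.hom_ext
      (by simpa using congrArg (biprod.inl ≫ ·) e) (by simpa using congrArg (biprod.inr ≫ ·) e)⟩
    exact isTorsion_of_epi_desc (pushout.inl c φ) (pushout.inr c φ) hF hG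
  · haveI := hGi Z i q hq
    have e : (EtCoh.pull i).map c ≫ (EtCoh.pull i).map (pushout.inl c φ) =
        (EtCoh.pull i).map φ ≫ (EtCoh.pull i).map (pushout.inr c φ) := by
      rw [← Functor.map_comp, ← Functor.map_comp, pushout.condition]
    rw [← hη]
    refine (Sheaf.H.map_comp_apply _ _ _).symm.trans ((congrArg (fun f => Sheaf.H.map f q η) e).trans
      ((Sheaf.H.map_comp_apply _ _ _).trans ?_))
    exact (congrArg _ (Subsingleton.elim (α := EtCoh.H Z ((EtCoh.pull i).obj G) q) _ 0)).trans (map_zero _)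

/-- Pullback to the closed subscheme of a henselian pair is bijective on torsion cohomology, given degree zero. -/
theorem bijective_Hpull {Z : Scheme.{u}} [IsAffine X] (i : Z ⟶ X) [IsClosedImmersion i]
    [PreservesFiniteLimits (EtCoh.pull i)]
    (h0 : ∀ F : EtCoh.Ab X, Function.Bijective (EtCore.Hpull i F 0)) :
    ∀ (q : ℕ) (F : EtCoh.Ab X), EtCoh.IsTorsion F → Function.Bijective (EtCore.Hpull i F q) := by
  intro q
  induction q with
  | zero => exact fun F _ => h0 F
  | succ n ih =>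
    intro F hF
    have mk : ∀ {F' : EtCoh.Ab X} (φ : F ⟶ F') [Mono φ], EtCoh.IsTorsion F' →
        ∃ (E : (ShortComplex.mk φ (cokernel.π φ) (cokernel.condition φ)).ShortExact),
          EtCoh.IsTorsion (cokernel φ) := fun φ _ hF' =>
      ⟨{ exact := ShortComplex.exact_of_g_is_cokernel _ (cokernelIsCokernel φ) },
        isTorsion_of_isLTorsion (CompTransfer.isLTorsion_of_epi (cokernel.π φ) (isLTorsion_univ hF'))⟩
    refine ⟨(injective_iff_map_eq_zero _).2 fun x hx => ?_, fun ξ => ?_⟩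
    · obtain ⟨G, φ, _, hG, hGv, -⟩ := CompTransfer.exists_torsion_effacement Set.univ F (isLTorsion_univ hF)
      obtain ⟨hE, hQ⟩ := mk φ (isTorsion_of_isLTorsion hG)
      haveI := hGv n
      obtain ⟨y, rfl⟩ := LimCoh.exists_δH hE n x (Subsingleton.elim (α := EtCoh.H X G (n + 1)) _ _)
      have hy := (LimCoh.Hpull_δH i hE n y).symm.trans hx
      obtain ⟨z, hz⟩ := LimCoh.exists_map_of_δH_eq_zero (hE.map_of_exact (EtCoh.pull i)) n _ hy
      obtain ⟨z', rfl⟩ := (ih G (isTorsion_of_isLTorsion hG)).2 z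
      have : y = (EtCoh.HF X n).map (cokernel.π φ) z' :=
        (ih _ hQ).1 (hz.symm.trans (LimCoh.Hpull_map i (cokernel.π φ) n z').symm)
      rw [this]
      exact LimCoh.δH_map_g hE n z'
    · obtain ⟨F', hF', φ, _, hφ⟩ := exists_effacement i F hF (n + 1) (Nat.succ_pos n) ξ
      obtain ⟨hE, hQ⟩ := mk φ hF'
      obtain ⟨y, rfl⟩ := LimCoh.exists_δH (hE.map_of_exact (EtCoh.pull i)) n ξ
        ((LimCoh.HF_map_eq _ _ _).trans hφ)
      obtain ⟨y', rfl⟩ := (ih _ hQ).2 y
      exact ⟨LimCoh.δH hE n y', LimCoh.Hpull_δH i hE n y'⟩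

/-- The unit is bijective on torsion cohomology, given degree zero. -/
theorem bijective_map_unit {Z : Scheme.{u}} [IsAffine X] (i : Z ⟶ X) [IsClosedImmersion i]
    (h0 : ∀ F : EtCoh.Ab X, Function.Bijective (Sheaf.H.map ((EtCoh.pullPushAdj i).unit.app F) 0))
    (F : EtCoh.Ab X) (hF : EtCoh.IsTorsion F) (q : ℕ) :
    Function.Bijective (Sheaf.H.map ((EtCoh.pullPushAdj i).unit.app F) q) := by
  haveI := EtSite.preservesFiniteLimits_pull i
  have hP : ∀ (F : EtCoh.Ab X) (q : ℕ), Function.Bijective (EtLim.HofPush i ((EtCoh.pull i).obj F) q) :=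
    fun F q => EtSite.bijective_HofPush i _ (fun p hp =>
      EtSite.isZero_Rpush_of_propB i (EtSite.propB_of_isIntegralHom i) _ p hp) q
  have hcomp : ∀ (F : EtCoh.Ab X) (q : ℕ), (EtCore.Hpull i F q : _ → _) =
      EtLim.HofPush i ((EtCoh.pull i).obj F) q ∘ Sheaf.H.map ((EtCoh.pullPushAdj i).unit.app F) q :=
    fun F q => funext fun e => EtSite.Hpull_apply i F q e
  have h := bijective_Hpull i (fun F => by rw [hcomp]; exact (hP F 0).comp (h0 F)) q F hF
  rw [hcomp] at h
  exact (Function.Bijective.of_comp_iff' (hP F q) _).1 h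

end

end Groth.L27.AffineEfface
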