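import Groth.Agent.L27.NormalSepClosed.Closed
import Groth.Agent.L27.NormalSepClosed.ConstSect
import Groth.Agent.L27.MV.SES
import Mathlib.CategoryTheory.Sites.Limits
import Mathlib.CategoryTheory.Limits.ConcreteCategory.Basic

/-! # A constant sheaf as the product of skyscrapers at a constructibly dense set of points -/

universe u

open CategoryTheory CategoryTheory.Limits AlgebraicGeometry Opposite TopologicalSpace

set_option autoImplicit false
set_option linter.style.haveILetI false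
set_option linter.unusedSectionVars false
set_option backward.isDefEq.respectTransparency.types false

namespace Groth.L27.AffineEfface

open ConstSect

noncomputable section

variable {Y : Scheme.{u}} {S : Type u} {K : S → Type u} [∀ s, Field (K s)]
  (p : ∀ s, Spec (CommRingCat.of (K s)) ⟶ Y) (A : AddCommGrpCat.{u + 1})

/-- The product of the skyscraper sheaves. -/
abbrev skyProd : EtCoh.Ab Y := ∏ᶜ fun s => (EtCoh.push (p s)).obj (ConstSect.K A (Spec (CommRingCat.of (K s))))

/-- The comparison with the product of skyscrapers. -/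
def θ : ConstSect.K A Y ⟶ skyProd p A := Pi.lift fun s => cmp A (p s)

theorem π_θ (s : S) (U : Y.Etale) (z : (ConstSect.K A Y).obj.obj (op U)) :
    (Pi.π (fun s => (EtCoh.push (p s)).obj (ConstSect.K A (Spec (CommRingCat.of (K s))))) s).hom.app (op U)
      ((θ p A).hom.app (op U) z) = (cmp A (p s)).hom.app (op U) z := by
  exact congrArg (fun φ : ConstSect.K A Y ⟶ (EtCoh.push (p s)).obj (ConstSect.K A (Spec (CommRingCat.of (K s)))) =>
    φ.hom.app (op U) z) (limit.lift_π (Fan.mk _ fun s => cmp A (p s)) ⟨s⟩)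

theorem skyProd_ext (U : Y.Etale) (a b : (skyProd p A).obj.obj (op U))
    (h : ∀ s, (Pi.π (fun s => (EtCoh.push (p s)).obj (ConstSect.K A (Spec (CommRingCat.of (K s))))) s).hom.app (op U) a =
      (Pi.π (fun s => (EtCoh.push (p s)).obj (ConstSect.K A (Spec (CommRingCat.of (K s))))) s).hom.app (op U) b) :
    a = b :=
  Concrete.isLimit_ext _
    (isLimitOfPreserves (sheafToPresheaf Y.smallEtaleTopology AddCommGrpCat.{u + 1} ⋙
      (evaluation _ _).obj (op U)) (limit.isLimit _)) a b fun ⟨s⟩ => h s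

theorem subsingleton_bc (s : S) (O : Y.Opens) :
    Subsingleton ((EtCoh.bc (p s)).obj (MV.oE O)).left :=
  ⟨fun a b => (pullback.snd O.ι (p s)).isOpenEmbedding.injective
    (Subsingleton.elim (α := PrimeSpectrum (K s)) _ _)⟩

theorem nonempty_bc_iff (s : S) (U : Y.Etale) :
    Nonempty ((EtCoh.bc (p s)).obj U).left ↔ (p s) default ∈ Set.range U.hom := by
  constructor
  · rintro ⟨z⟩
    refine ⟨pullback.fst U.hom (p s) z, ?_⟩
    rw [← Scheme.Hom.comp_apply, pullback.condition, Scheme.Hom.comp_apply]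
    exact congrArg _ (Subsingleton.elim (α := PrimeSpectrum (K s)) _ _)
  · rintro ⟨u, hu⟩
    obtain ⟨z, -, -⟩ := Scheme.Pullback.exists_preimage_pullback (f := U.hom) (g := p s) u default hu
    exact ⟨z⟩

theorem isLocallyInjective_θ (hD : ∀ O : Y.Opens, (O : Set Y).Nonempty → ∃ s, (p s) default ∈ O) :
    Sheaf.IsLocallyInjective (θ p A) := ⟨fun {U} z z' h => by
    refine (EtSite.mem_topology_iff _).2 fun x => ?_
    obtain ⟨W, g, w, a, hw, e⟩ := exists_locally_cst A (z - z') x
    refine ⟨W, g, w, ?_, hw⟩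
    haveI : AlgebraicGeometry.Etale W.hom := W.prop
    haveI : Nonempty W.left := ⟨w⟩
    obtain ⟨s, hs⟩ := hD ⟨Set.range W.hom, W.hom.isOpenMap.isOpen_range⟩ ⟨W.hom w, w, rfl⟩
    haveI := (nonempty_bc_iff p s W).2 hs
    have h0 : cst A ((EtCoh.bc (p s)).obj W) a = 0 := by
      rw [← cmp_cst, ← e, NatTrans.naturality_apply, ← π_θ, map_sub, h, sub_self, map_zero, map_zero]
      rfl
    have ha : a = 0 := cst_injective A _ (h0.trans (map_zero (cst A ((EtCoh.bc (p s)).obj W))).symm)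
    show (ConstSect.K A Y).obj.map g.op z = (ConstSect.K A Y).obj.map g.op z'
    rw [← sub_eq_zero, ← map_sub]
    exact e.trans (by rw [ha, map_zero])⟩

theorem isIso_θ [Finite A] {T : Scheme.{u}} [IsAffine T] [IsIntegral T] [IsSepClosed T.functionField]
    (hN : ∀ x : T, IsIntegrallyClosed (T.presheaf.stalk x)) (j : Y ⟶ T) [IsClosedImmersion j]
    (hE : ∀ R : Set S, ∃ C : Y.Opens, IsClosed (C : Set Y) ∧ ∀ s, (p s) default ∈ C ↔ s ∈ R)
    (hD : ∀ O : Y.Opens, (O : Set Y).Nonempty → ∃ s, (p s) default ∈ O) : IsIso (θ p A) := by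
  classical
  haveI := isLocallyInjective_θ p A hD
  haveI : Sheaf.IsLocallySurjective (θ p A) := ⟨fun {U} z => by
    refine (EtSite.mem_topology_iff _).2 fun x => ?_
    haveI : AlgebraicGeometry.Etale U.hom := U.prop
    obtain ⟨_, ⟨(V : U.left.Opens), hV, rfl⟩, hxV, -⟩ :=
      U.left.isBasis_affineOpens.exists_subset_of_mem_open (Set.mem_univ x) isOpen_univ
    haveI : IsAffine (V : Scheme.{u}) := hV
    obtain ⟨ι, _, W, e, he⟩ := NormalSepClosed.exists_splitting hN j (V.ι ≫ U.hom)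
    obtain ⟨k, y, hy⟩ : ∃ k y, (Sigma.ι (fun k => (W k : Scheme.{u})) k ≫ e.hom) y = (⟨x, hxV⟩ : V) := by
      obtain ⟨v, hv⟩ := e.hom.surjective ⟨x, hxV⟩
      obtain ⟨⟨k, y⟩, hy⟩ := (sigmaMk fun k => (W k : Scheme.{u})).surjective v
      rw [sigmaMk_mk] at hy
      exact ⟨k, y, (Scheme.Hom.comp_apply _ _ _).trans ((congrArg _ hy).trans hv)⟩
    let g : MV.oE (W k) ⟶ U := MorphismProperty.Over.homMk
      (Sigma.ι (fun k => (W k : Scheme.{u})) k ≫ e.hom ≫ V.ι)
      (((Category.assoc _ _ _).trans (congrArg (_ ≫ ·) (Category.assoc _ _ _))).trans (he k))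
    let zs : ∀ s, (ConstSect.K A (Spec (CommRingCat.of (K s)))).obj.obj (op ((EtCoh.bc (p s)).obj (MV.oE (W k)))) :=
      fun s => (Pi.π (fun s => (EtCoh.push (p s)).obj (ConstSect.K A (Spec (CommRingCat.of (K s))))) s).hom.app _
        ((skyProd p A).obj.map g.op z)
    have hval : ∀ s, ∃ a : A, zs s = cst A _ a := fun s => by
      rcases isEmpty_or_nonempty ((EtCoh.bc (p s)).obj (MV.oE (W k))).left with h | h
      · exact ⟨0, eq_of_isEmpty _ _ _ _⟩
      · haveI := subsingleton_bc p s (W k)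
        haveI : PreirreducibleSpace ((EtCoh.bc (p s)).obj (MV.oE (W k))).left :=
          ⟨Set.subsingleton_univ.isPreirreducible⟩
        exact exists_eq_cst A _ _
    choose val hval using hval
    choose C hCc hC using fun a : A => hE {s | val s = a}
    obtain ⟨a, ha⟩ : ∃ a, ((W k).ι y : Y) ∈ C a := by
      by_contra hne
      push Not at hne
      let O : Y.Opens := ⟨(⋃ a, (C a : Set Y))ᶜ, (isClosed_iUnion_of_finite hCc).isOpen_compl⟩
      obtain ⟨s, hs⟩ := hD O ⟨(W k).ι y, fun hm => by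
        obtain ⟨a, ha⟩ := Set.mem_iUnion.1 hm
        exact hne a ha⟩
      exact hs (Set.mem_iUnion.2 ⟨val s, (hC (val s) s).2 rfl⟩)
    have hym : ((W k).ι y : Y) ∈ W k ⊓ C a := ⟨y.2, ha⟩
    let g' : MV.oE (W k ⊓ C a) ⟶ MV.oE (W k) := MV.oHom inf_le_left
    refine ⟨MV.oE (W k ⊓ C a), g' ≫ g, ⟨_, hym⟩, ⟨cst A _ a, ?_⟩, ?_⟩
    · refine skyProd_ext p A _ _ _ fun s => ?_
      rw [π_θ, cmp_cst, op_comp, Functor.map_comp_apply, NatTrans.naturality_apply]
      refine Eq.trans ?_ (congrArg (((EtCoh.push (p s)).obj (ConstSect.K A (Spec (CommRingCat.of (K s))))).obj.map g'.op) (hval s)).symm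
      rcases isEmpty_or_nonempty ((EtCoh.bc (p s)).obj (MV.oE (W k ⊓ C a))).left with h | h
      · exact eq_of_isEmpty _ _ _ _
      · have hs : (p s) default ∈ W k ⊓ C a := by
          obtain ⟨w, hw⟩ := (nonempty_bc_iff p s (MV.oE (W k ⊓ C a))).1 h
          exact hw ▸ w.2
        rw [(hC a s).1 hs.2]
        exact (map_cst A ((EtCoh.bc (p s)).map g') a).symm
    · show (g'.left ≫ g.left) ⟨_, hym⟩ = x
      rw [Scheme.Hom.comp_apply]
      have hg : g'.left ⟨_, hym⟩ = y := (W k).ι.isOpenEmbedding.injective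
        ((Scheme.Hom.comp_apply (Y.homOfLE (inf_le_left : W k ⊓ C a ≤ W k)) (W k).ι ⟨_, hym⟩).symm.trans
          congr($(Scheme.homOfLE_ι Y (inf_le_left : W k ⊓ C a ≤ W k)) ⟨_, hym⟩))
      rw [hg]
      show (Sigma.ι (fun k => (W k : Scheme.{u})) k ≫ e.hom ≫ V.ι) y = x
      rw [← Category.assoc, Scheme.Hom.comp_apply, hy]
      rfl⟩
  exact (Sheaf.isLocallyBijective_iff_isIso (θ p A)).1 ⟨inferInstance, inferInstance⟩

end

end Groth.L27.AffineEfface
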