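import Groth.Agent.L27.EtSite.StrictLocal
import Groth.Agent.L27.FLC.Const
import Groth.Agent.L27.StrictCover
import Mathlib.RingTheory.Henselian
import Mathlib.FieldTheory.IsSepClosed

/-! # Sheaves on the spectrum of a separably closed field -/

universe u

open CategoryTheory CategoryTheory.Limits AlgebraicGeometry Opposite

set_option autoImplicit false
set_option linter.style.haveILetI false
set_option backward.isDefEq.respectTransparency.types false

namespace Groth.L27.AffineEfface

open ConstSect

theorem isSepClosed_residueField (K : Type u) [Field K] [IsSepClosed K] :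
    IsSepClosed (IsLocalRing.ResidueField K) := by
  refine Groth.L27.StrictCover.isSepClosed_of_ringEquiv (RingEquiv.ofBijective (IsLocalRing.residue K)
    ⟨RingHom.injective _, IsLocalRing.residue_surjective⟩)

theorem exists_iso_const (K : Type u) [Field K] [IsSepClosed (IsLocalRing.ResidueField K)]
    (G : EtCoh.Ab (Spec (CommRingCat.of K))) (A : AddCommGrpCat.{u + 1})
    (e : (EtCoh.stalk (EtSite.closedPt K)).obj G ≅ A) :
    Nonempty (G ≅ ConstSect.K A (Spec (CommRingCat.of K))) := by
  let X := Spec (CommRingCat.of K)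
  let b : G.obj.obj (op (EtCoh.top X)) →+ (EtCoh.stalk (EtSite.closedPt K)).obj G :=
    ((Scheme.pointSmallEtale (EtSite.closedPt K)).toPresheafFiber (EtCoh.top X) (EtSite.topPt K) G.obj).hom
  have hb : Function.Bijective b := EtSite.bijective_toPresheafFiber K G.obj
  let e₀ : A ≃+ G.obj.obj (op (EtCoh.top X)) :=
    e.symm.addCommGroupIsoToAddEquiv.trans (AddEquiv.ofBijective b hb).symm
  obtain ⟨f, hf⟩ := Groth.L27.FLC.exists_constMap (H := G) e₀.toAddMonoidHom
  have hsec : ∀ (Q : X.Etale) (q : Q.left), ∃ (σ : EtCoh.top X ⟶ Q) (t : (EtCoh.top X).left), σ.left t = q := by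
    intro Q q
    haveI : AlgebraicGeometry.Etale Q.hom := Q.prop
    obtain ⟨y, hy⟩ := EtSite.exists_fiber (EtSite.closedPt K) Q q (Subsingleton.elim (α := PrimeSpectrum K) _ _)
    obtain ⟨σ, hσ⟩ := EtSite.exists_section K Q y
    refine ⟨σ, EtSite.closedPt K default, ?_⟩
    rw [← hy]
    have h := congrArg (fun z : (Scheme.pointSmallEtale (EtSite.closedPt K)).fiber.obj Q => z.left (default : Spec (CommRingCat.of (IsLocalRing.ResidueField K)))) hσ
    exact ((Scheme.Hom.comp_apply (EtSite.closedPt K) σ.left _).symm.trans h)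
  haveI : IsIso f := by
    refine Groth.L27.FLC.isIso_of_sections f (fun Q hQ m hm => ?_) (fun Q x q => ?_)
    · obtain ⟨σ, -⟩ := hsec Q hQ.some
      have h := congrArg (G.obj.map σ.op) ((hf Q m).symm.trans hm)
      rw [← Functor.map_comp_apply, ← op_comp, (EtCore.topIsTerminal X).hom_ext (σ ≫ _) (𝟙 _), map_zero] at h
      exact e₀.injective (((ConcreteCategory.congr_hom (G.obj.map_id (op (EtCoh.top X))) (e₀ m)).symm.trans h).trans (map_zero e₀).symm)
    · obtain ⟨σ, t, ht⟩ := hsec Q q
      refine ⟨EtCoh.top X, σ, t, e₀.symm (G.obj.map σ.op x), ht, ?_⟩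
      refine (((ConcreteCategory.congr_hom (G.obj.map_id (op (EtCoh.top X))) _).trans (e₀.apply_symm_apply _)).symm.trans ?_).trans (hf _ _).symm
      rw [(EtCore.topIsTerminal X).hom_ext (Groth.L27.FLC.toTop (EtCoh.top X)) (𝟙 _)]
      rfl
  exact ⟨(asIso f).symm⟩

end Groth.L27.AffineEfface
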