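import Groth.Agent.L27.AffineEfface.ProductRing
import Groth.Agent.L27.AffineEfface.ProductSheaf
import Groth.Agent.L27.AffineEfface.SepPoint
import Groth.Agent.L27.EtSite.BaseChangeIso
import Groth.Agent.L27.EtSite.HofPush
import Groth.Agent.L27.EtSite.PropB
import Groth.Agent.L27.EtSite.Push
import Groth.Agent.L28.ExtShriek.Stalks
import Groth.Agent.L28.EtTrace.Galois
import Groth.Agent.S0091
import Mathlib.CategoryTheory.Limits.Shapes.Biproducts
import Mathlib.AlgebraicGeometry.Morphisms.Integral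
import Mathlib.FieldTheory.IsAlgClosed.AlgebraicClosure

/-! # Constructible sheaves on affine schemes embed into acyclic integral pushforwards -/

universe u

open CategoryTheory CategoryTheory.Limits AlgebraicGeometry Opposite TopologicalSpace

set_option autoImplicit false
set_option linter.style.haveILetI false
set_option linter.unusedSectionVars false
set_option backward.isDefEq.respectTransparency.types false

namespace Groth.L27.AffineEfface

noncomputable section

variable {X : Scheme.{u}}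

/-- A constructible sheaf has finitely many stalk types. -/
theorem exists_finite_types [CompactSpace X] [QuasiSeparatedSpace X] {F : EtCoh.Ab X}
    (hF : EtPBC.IsConstructible F) :
    ∃ (m : ℕ) (M : Fin m → Type) (_ : ∀ k, AddCommGroup (M k)) (_ : ∀ k, Finite (M k)),
      ∀ x : X, ∃ k, ∀ (Ω : Type u) [Field Ω] [IsSepClosed Ω] (ξ : Spec (CommRingCat.of Ω) ⟶ X),
        ξ.base default = x → Nonempty ((EtCoh.stalk ξ).obj F ≅ AddCommGrpCat.of (ULift.{u + 1} (M k))) := by
  classical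
  rw [Groth.L28.Strata.isConstructible_iff,
    Groth.L28.Strata.loc_iff_strat (Groth.L28.Strata.stable_lcPred F)] at hF
  obtain ⟨n, T, g, h1, h2, -, h4, h5⟩ := hF
  choose ι U hU hM using h5
  choose M instM hfin e using hM
  haveI := h1
  have hc : ∀ i, ∃ t : Finset (ι i), ∀ z : T i, ∃ k ∈ t, z ∈ Set.range (U i k).hom := by
    intro i
    haveI : CompactSpace (T i) := ⟨(g i).isEmbedding.isCompact_iff.2 (by
      rw [Set.image_univ]; exact Groth.L28.Strata.isCompact_of_isConstructible (h2 i))⟩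
    obtain ⟨t, ht⟩ := (isCompact_univ (X := T i)).elim_finite_subcover (fun k => Set.range (U i k).hom)
      (fun k => by
        haveI : AlgebraicGeometry.Etale (U i k).hom := (U i k).prop
        exact (U i k).hom.isOpenMap.isOpen_range)
      (fun z _ => Set.mem_iUnion.2 (hU i z))
    exact ⟨t, fun z => by simpa using ht (Set.mem_univ z)⟩
  choose t ht using hc
  obtain ⟨m, ⟨E⟩⟩ := Finite.exists_equiv_fin (Σ i, (t i : Set (ι i)))
  refine ⟨m, fun k => M (E.symm k).1 (E.symm k).2.1, fun k => instM _ _, fun k => hfin _ _, fun x => ?_⟩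
  obtain ⟨i, z, rfl⟩ := Set.mem_iUnion.1 (h4.symm ▸ Set.mem_univ x : x ∈ ⋃ i, Set.range (g i))
  obtain ⟨k, hk, w, hw⟩ := ht i z
  refine ⟨E ⟨i, k, hk⟩, fun Ω _ _ ξ hξ => ?_⟩
  obtain ⟨ξ', rfl⟩ := Groth.L28.EtModStalk.exists_lift (g i) ξ ⟨z, hξ.symm⟩
  obtain ⟨y, -⟩ := Groth.L27.EtSite.exists_fiber ξ' (U i k) w
    (hw.trans ((g i).isEmbedding.injective hξ).symm)
  obtain ⟨e'⟩ := Groth.L28.Locus.stalk_trivialised (e i k).some ξ' y
  have key : ∀ a : Σ i, (t i : Set (ι i)), a = ⟨i, k, hk⟩ →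
      Nonempty ((EtCoh.stalk (ξ' ≫ g i)).obj F ≅ AddCommGrpCat.of (ULift.{u + 1} (M a.1 a.2.1))) := by
    rintro _ rfl
    exact ⟨((Groth.L27.EtSite.stalkPullIso (g i) ξ').app F).symm ≪≫ e'⟩
  exact key _ (E.symm_apply_apply _)

/-- An algebraically closed field over a point. -/
abbrev Kbar (x : X) : Type u := AlgebraicClosure (X.residueField x)

/-- The geometric point. -/
def geom (x : X) : Spec (CommRingCat.of (Kbar x)) ⟶ X :=
  Spec.map (CommRingCat.ofHom (algebraMap (X.residueField x) (Kbar x))) ≫ X.fromSpecResidueField x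

theorem geom_default (x : X) : geom x default = x := by
  rw [geom, Scheme.Hom.comp_apply, Scheme.fromSpecResidueField_apply]

theorem nsmul_id_const (Y : Scheme.{u}) (M : Type) [AddCommGroup M] [Finite M] :
    Nat.card M • 𝟙 (EtCoh.const Y M) = 0 := by
  haveI : (EtCore.gsec Y).Additive := { }
  haveI : (constantSheaf Y.smallEtaleTopology AddCommGrpCat.{u + 1}).Additive :=
    (EtCore.constAdj Y).left_adjoint_additive
  have h : Nat.card M • 𝟙 (AddCommGrpCat.of (ULift.{u + 1} M)) = 0 :=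
    ConcreteCategory.hom_ext _ _ fun a => by
      let e : (AddCommGrpCat.of (ULift.{u + 1} M) ⟶ AddCommGrpCat.of (ULift.{u + 1} M)) →+ ULift.{u + 1} M :=
        AddMonoidHom.mk' (fun g => g a) fun _ _ => rfl
      refine (map_nsmul e (Nat.card M) (𝟙 _)).trans (ULift.ext _ _ ?_)
      show Nat.card M • (a : ULift.{u + 1} M).down = 0
      exact card_nsmul_eq_zero'
  have h' := congrArg ((constantSheaf Y.smallEtaleTopology AddCommGrpCat.{u + 1}).map) h
  rw [Functor.map_nsmul, Functor.map_zero, CategoryTheory.Functor.map_id] at h'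
  exact h'

theorem nsmul_id_push {Y : Scheme.{u}} (ν : Y ⟶ X) (F : EtCoh.Ab Y) {n : ℕ} (h : n • 𝟙 F = 0) :
    n • 𝟙 ((EtCoh.push ν).obj F) = 0 := by
  haveI : (EtCoh.push ν).Additive := (EtCoh.pullPushAdj ν).right_adjoint_additive
  rw [← CategoryTheory.Functor.map_id, ← Functor.map_nsmul, h, Functor.map_zero]

theorem subsingleton_H_push {Y T : Scheme.{u}} [IsAffine T] [IsIntegral T] [IsSepClosed T.functionField]
    (hN : ∀ x : T, IsIntegrallyClosed (T.presheaf.stalk x)) (j : Y ⟶ T) [IsClosedImmersion j]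
    (ν : Y ⟶ X) [IsIntegralHom ν] (M : Type) [AddCommGroup M] [Finite M] (q : ℕ) (hq : 1 ≤ q) :
    Subsingleton (EtCoh.H X ((EtCoh.push ν).obj (EtCoh.const Y M)) q) := by
  haveI := EtSite.preservesFiniteLimits_pull ν
  haveI := Groth.Agent.S0091.result hN j M q hq
  exact (EtSite.bijective_HofPush ν _ (fun p hp =>
    EtSite.isZero_Rpush_of_propB ν (EtSite.propB_of_isIntegralHom ν) _ p hp) q).1.subsingleton

theorem subsingleton_H_pull_push {Y T Z : Scheme.{u}} [IsAffine T] [IsIntegral T] [IsSepClosed T.functionField]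
    (hN : ∀ x : T, IsIntegrallyClosed (T.presheaf.stalk x)) (j : Y ⟶ T) [IsClosedImmersion j]
    (ν : Y ⟶ X) [IsIntegralHom ν] (i : Z ⟶ X) [IsClosedImmersion i] (M : Type) [AddCommGroup M] [Finite M]
    (q : ℕ) (hq : 1 ≤ q) :
    Subsingleton (EtCoh.H Z ((EtCoh.pull i).obj ((EtCoh.push ν).obj (EtCoh.const Y M))) q) := by
  have hP := (IsPullback.of_hasPullback ν i)
  haveI := EtSite.BC.isIso_baseChange0 hP (EtCoh.const Y M)
  have hs := subsingleton_H_push hN (pullback.fst ν i ≫ j) (pullback.snd ν i) M q hq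
  let e : (EtCoh.pull i).obj ((EtCoh.push ν).obj (EtCoh.const Y M)) ≅
      (EtCoh.push (pullback.snd ν i)).obj (EtCoh.const (pullback ν i) M) :=
    asIso (EtCoh.baseChange0 ν i (pullback.snd ν i) (pullback.fst ν i) hP.w (EtCoh.const Y M)) ≪≫
      (EtCoh.push (pullback.snd ν i)).mapIso (EtCore.pullConst (pullback.fst ν i) M)
  exact @Equiv.subsingleton _ _ (((EtCoh.HF Z q).mapIso e).addCommGroupIsoToAddEquiv).toEquiv hs

/-- A map to an integral pushforward detecting a set of points. -/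
theorem exists_detect [IsAffine X] (F : EtCoh.Ab X) (S : Set X) (M : Type) [AddCommGroup M] [Finite M]
    (hS : ∀ x ∈ S, ∀ (Ω : Type u) [Field Ω] [IsSepClosed Ω] (ξ : Spec (CommRingCat.of Ω) ⟶ X),
      ξ.base default = x → Nonempty ((EtCoh.stalk ξ).obj F ≅ AddCommGrpCat.of (ULift.{u + 1} M))) :
    ∃ (Y T : Scheme.{u}) (_ : IsAffine T) (_ : IsIntegral T) (_ : IsSepClosed T.functionField)
      (j : Y ⟶ T) (ν : Y ⟶ X) (φ : F ⟶ (EtCoh.push ν).obj (EtCoh.const Y M)),
      IsClosedImmersion j ∧ IsIntegralHom ν ∧ (∀ x : T, IsIntegrallyClosed (T.presheaf.stalk x)) ∧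
      ∀ x ∈ S, ∃ (Ω : Type u) (_ : Field Ω) (_ : IsSepClosed Ω) (ξ : Spec (CommRingCat.of Ω) ⟶ X),
        ξ.base default = x ∧ Function.Injective ((EtCoh.stalk ξ).map φ) := by
  let B : CommRingCat.{u} := Γ(X, ⊤)
  let K : S → Type u := fun s => Kbar (s : X)
  let h : ∀ s : S, B ⟶ CommRingCat.of (K s) := fun s => Spec.preimage (geom (s : X) ≫ X.isoSpec.hom)
  letI : ∀ s : S, Algebra B (K s) := fun s => (h s).hom.toAlgebra
  obtain ⟨T, hT₁, hT₂, hT₃, j, hj, hN⟩ := exists_closedImmersion B K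
  haveI := hj
  let R := PR B K
  let Y := Spec (CommRingCat.of R)
  let ν : Y ⟶ X := Spec.map (CommRingCat.ofHom (algebraMap B R)) ≫ X.isoSpec.inv
  haveI : IsIntegralHom (Spec.map (CommRingCat.ofHom (algebraMap B R))) :=
    IsIntegralHom.SpecMap_iff.2 (algebraMap_isIntegral_iff.2 inferInstance)
  haveI : IsIntegralHom ν := inferInstanceAs (IsIntegralHom (_ ≫ _))
  let p : ∀ s : S, Spec (CommRingCat.of (K s)) ⟶ Y := fun s => Spec.map (CommRingCat.ofHom (coord B K s))
  have hpν : ∀ s : S, p s ≫ ν = geom (s : X) := fun s => by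
    have hc : CommRingCat.ofHom (algebraMap B R) ≫ CommRingCat.ofHom (coord B K s) = h s := rfl
    show Spec.map _ ≫ Spec.map _ ≫ X.isoSpec.inv = _
    rw [← Category.assoc, ← Spec.map_comp, hc, Spec.map_preimage, Category.assoc, Iso.hom_inv_id, Category.comp_id]
  have hp : ∀ (s : S) (r : R), (p s) default ∈ PrimeSpectrum.basicOpen r ↔ coord B K s r ≠ 0 := by
    intro s r
    let d : PrimeSpectrum (K s) := (default : Spec (CommRingCat.of (K s)))
    have h0 : d.asIdeal = ⊥ := (Ideal.eq_bot_or_top _).resolve_right d.isPrime.ne_top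
    show r ∉ d.asIdeal.comap (coord B K s) ↔ _
    rw [Ideal.mem_comap, h0, Ideal.mem_bot]
  have hE : ∀ Q : Set S, ∃ C : Y.Opens, IsClosed (C : Set Y) ∧ ∀ s, (p s) default ∈ C ↔ s ∈ Q := by
    intro Q
    obtain ⟨e, he, hQ⟩ := exists_idempotent B K Q
    refine ⟨PrimeSpectrum.basicOpen e, ?_, fun s => (hp s e).trans ?_⟩
    · exact (PrimeSpectrum.isClopen_iff.2 ⟨e, he, rfl⟩).1
    · by_cases hs : s ∈ Q <;> simp [hs, (hQ s).1, (hQ s).2]
  have hD : ∀ O : Y.Opens, (O : Set Y).Nonempty → ∃ s, (p s) default ∈ O := by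
    rintro O ⟨y, hy⟩
    obtain ⟨_, ⟨r, rfl⟩, hyr, hrO⟩ :=
      PrimeSpectrum.isTopologicalBasis_basic_opens.exists_subset_of_mem_open hy O.2
    by_contra hne
    push Not at hne
    have hr : r = 0 := eq_zero_of_coord B K r fun s => by_contra fun h => hne s (hrO ((hp s r).2 h))
    rw [hr] at hyr
    simp at hyr
  let A : AddCommGrpCat.{u + 1} := AddCommGrpCat.of (ULift.{u + 1} M)
  haveI : ∀ s : S, IsSepClosed (IsLocalRing.ResidueField (K s)) := fun s => isSepClosed_residueField _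
  let ζ : ∀ s : S, Spec (CommRingCat.of (IsLocalRing.ResidueField (K s))) ⟶ Y :=
    fun s => EtSite.closedPt (K s) ≫ p s
  have hζ : ∀ s : S, (ζ s ≫ ν) default = (s : X) := fun s => by
    rw [Category.assoc, hpν, Scheme.Hom.comp_apply]
    exact (congrArg (geom (s : X)) (Subsingleton.elim (α := PrimeSpectrum (K s)) _ _)).trans (geom_default _)
  have hiso : ∀ s : S, Nonempty ((EtCoh.pull (p s)).obj ((EtCoh.pull ν).obj F) ≅
      ConstSect.K A (Spec (CommRingCat.of (K s)))) := fun s => by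
    obtain ⟨e⟩ := hS s s.2 _ (ζ s ≫ ν) (hζ s)
    exact exists_iso_const (K s) _ A ((EtSite.stalkPullIso (p s) (EtSite.closedPt (K s))).app _ ≪≫
      (EtSite.stalkPullIso ν (ζ s)).app F ≪≫ e)
  let u₀ : (EtCoh.pull ν).obj F ⟶ skyProd p A :=
    Pi.lift fun s => (EtCoh.pullPushAdj (p s)).homEquiv _ _ (hiso s).some.hom
  haveI : Finite A := inferInstanceAs (Finite (ULift.{u + 1} M))
  haveI := isIso_θ p A hN j hE hD
  let ψ : (EtCoh.pull ν).obj F ⟶ ConstSect.K A Y := u₀ ≫ inv (θ p A)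
  have hψ : ∀ s, ψ ≫ ConstSect.cmp A (p s) = (EtCoh.pullPushAdj (p s)).homEquiv _ _ (hiso s).some.hom := fun s => by
    rw [show ConstSect.cmp A (p s) = θ p A ≫ Pi.π _ s from
      (limit.lift_π (Fan.mk _ fun s => ConstSect.cmp A (p s)) ⟨s⟩).symm]
    show (u₀ ≫ inv (θ p A)) ≫ θ p A ≫ _ = _
    rw [Category.assoc, IsIso.inv_hom_id_assoc]
    exact limit.lift_π _ _
  let φ : F ⟶ (EtCoh.push ν).obj (EtCoh.const Y M) := (EtCoh.pullPushAdj ν).homEquiv _ _ ψ
  refine ⟨Y, T, hT₁, hT₂, hT₃, j, ν, φ, hj, inferInstance, hN, fun x hx => ?_⟩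
  let s : S := ⟨x, hx⟩
  refine ⟨_, inferInstance, inferInstance, ζ s ≫ ν, hζ s, ?_⟩
  have hc : ConstSect.cmp A (p s) = (EtCoh.pullPushAdj (p s)).homEquiv _ _ ((EtCore.pullConstIso (p s)).hom.app A) :=
    (Adjunction.homEquiv_unit _ _ _ _).symm
  have h1 := hψ s
  rw [hc, ← Adjunction.homEquiv_naturality_left] at h1
  have h2 := ((EtCoh.pullPushAdj (p s)).homEquiv _ _).injective h1
  haveI : IsIso ((EtCoh.pull (p s)).map ψ ≫ (EtCore.pullConstIso (p s)).hom.app A) := by rw [h2]; infer_instance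
  haveI : IsIso ((EtCoh.pull (p s)).map ψ) := IsIso.of_isIso_comp_right _ ((EtCore.pullConstIso (p s)).hom.app A)
  have hψinj : Function.Injective ((EtCoh.stalk (ζ s)).map ψ) := by
    haveI : IsIso ((EtCoh.stalk (ζ s)).map ψ) :=
      (NatIso.isIso_map_iff (EtSite.stalkPullIso (p s) (EtSite.closedPt (K s))) ψ).1
        (inferInstanceAs (IsIso ((EtCoh.stalk (EtSite.closedPt (K s))).map ((EtCoh.pull (p s)).map ψ))))
    exact (ConcreteCategory.bijective_of_isIso _).1
  have hψφ : (EtCoh.pull ν).map φ ≫ (EtCoh.pullPushAdj ν).counit.app _ = ψ := by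
    exact ((EtCoh.pullPushAdj ν).homEquiv_counit _ _ φ).symm.trans (Equiv.symm_apply_apply _ _)
  have hφ : Function.Injective ((EtCoh.stalk (ζ s)).map ((EtCoh.pull ν).map φ)) := fun a b hab => hψinj (by
    rw [← hψφ, Functor.map_comp, ConcreteCategory.comp_apply, ConcreteCategory.comp_apply, hab])
  intro a b hab
  obtain ⟨a', rfl⟩ := (ConcreteCategory.bijective_of_isIso ((EtSite.stalkPullIso ν (ζ s)).hom.app F)).2 a
  obtain ⟨b', rfl⟩ := (ConcreteCategory.bijective_of_isIso ((EtSite.stalkPullIso ν (ζ s)).hom.app F)).2 b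
  refine congrArg ((EtSite.stalkPullIso ν (ζ s)).hom.app F) (hφ ?_)
  refine (ConcreteCategory.bijective_of_isIso ((EtSite.stalkPullIso ν (ζ s)).hom.app _)).1 ?_
  have hn := (EtSite.stalkPullIso ν (ζ s)).hom.naturality φ
  exact (ConcreteCategory.congr_hom hn a').trans (hab.trans (ConcreteCategory.congr_hom hn b').symm)

/-- Constructible sheaves on affine schemes embed into torsion sheaves acyclic on every closed subscheme. -/
theorem exists_mono_acyclic [IsAffine X] {F : EtCoh.Ab X} (hF : EtPBC.IsConstructible F) :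
    ∃ (G : EtCoh.Ab X) (φ : F ⟶ G), Mono φ ∧ EtCoh.IsTorsion G ∧
      (∀ q : ℕ, 1 ≤ q → Subsingleton (EtCoh.H X G q)) ∧
      ∀ (Z : Scheme.{u}) (i : Z ⟶ X) [IsClosedImmersion i] (q : ℕ), 1 ≤ q →
        Subsingleton (EtCoh.H Z ((EtCoh.pull i).obj G) q) := by
  classical
  obtain ⟨m, M, iM, fM, hM⟩ := exists_finite_types hF
  choose k hk using hM
  have hdet := fun c : Fin m => exists_detect F {x | k x = c} (M c) fun x hx Ω _ _ ξ hξ => by
    obtain rfl : k x = c := hx
    exact hk x Ω ξ hξ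
  choose Y T hT₁ hT₂ hT₃ j ν φ hj hν hN hinj using hdet
  haveI := hT₁; haveI := hT₂; haveI := hT₃; haveI := hj; haveI := hν
  let f : Fin m → EtCoh.Ab X := fun c => (EtCoh.push (ν c)).obj (EtCoh.const (Y c) (M c))
  have hzero : ∀ (P : EtCoh.Ab X ⥤ AddCommGrpCat.{u + 1}) [P.Additive], (∀ c, Subsingleton (P.obj (f c))) →
      Subsingleton (P.obj (⨁ f)) := fun P _ hP => by
    refine subsingleton_of_forall_eq 0 fun x => ?_
    have h := congrArg (fun ψ => ψ x) (congrArg P.map (biproduct.total (f := f)))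
    simp only [Functor.map_sum, CategoryTheory.Functor.map_id] at h
    let ev : (P.obj (⨁ f) ⟶ P.obj (⨁ f)) →+ P.obj (⨁ f) := AddMonoidHom.mk' (fun g => g x) fun _ _ => rfl
    refine (ConcreteCategory.id_apply (X := P.obj (⨁ f)) x).symm.trans (h.symm.trans ((map_sum ev _ _).trans ?_))
    exact Finset.sum_eq_zero fun c _ => by
      show (P.map _) x = 0
      rw [Functor.map_comp, ConcreteCategory.comp_apply, Subsingleton.elim ((P.map (biproduct.π f c)) x) 0, map_zero]
  refine ⟨⨁ f, biproduct.lift φ, ?_, ?_, fun q hq => ?_, fun Z i _ q hq => ?_⟩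
  · haveI : Sheaf.IsLocallyInjective (biproduct.lift φ) := by
      refine EtSite.isLocallyInjective_of_some_stalks _ fun x => ?_
      obtain ⟨Ω, _, _, ξ, hξ, hi⟩ := hinj (k x) x rfl
      refine ⟨Ω, inferInstance, inferInstance, ξ, hξ, fun a b hab => hi ?_⟩
      have h := congrArg ((EtCoh.stalk ξ).map (biproduct.π f (k x))) hab
      have e : (EtCoh.stalk ξ).map (biproduct.lift φ) ≫ (EtCoh.stalk ξ).map (biproduct.π f (k x)) =
          (EtCoh.stalk ξ).map (φ (k x)) := by rw [← Functor.map_comp, biproduct.lift_π]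
      exact (ConcreteCategory.congr_hom e a).symm.trans (h.trans (ConcreteCategory.congr_hom e b))
    exact Sheaf.mono_of_isLocallyInjective _
  · refine Groth.L28.EtTrace.isTorsion_of_nsmul (N := ∏ c, Nat.card (M c))
      (Finset.prod_pos fun c _ => Nat.card_pos) (biproduct.hom_ext' _ _ fun c => ?_)
    obtain ⟨d, hd⟩ := Finset.dvd_prod_of_mem (fun c => Nat.card (M c)) (Finset.mem_univ c)
    rw [Preadditive.comp_nsmul, Category.comp_id, comp_zero, ← Category.id_comp (biproduct.ι f c),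
      ← Preadditive.nsmul_comp, hd, mul_nsmul, nsmul_id_push (ν c) _ (nsmul_id_const _ _), smul_zero, zero_comp]
  · haveI : (EtCoh.HF X q).Additive := inferInstance
    exact hzero (EtCoh.HF X q) fun c => subsingleton_H_push (hN c) (j c) (ν c) (M c) q hq
  · haveI : (EtCoh.pull i).Additive := (EtCoh.pullPushAdj i).left_adjoint_additive
    exact hzero (EtCoh.pull i ⋙ EtCoh.HF Z q) fun c => subsingleton_H_pull_push (hN c) (j c) (ν c) i (M c) q hq

end

end Groth.L27.AffineEfface
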