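import Groth.Agent.L27.StrictCover
import Mathlib.FieldTheory.IsAlgClosed.AlgebraicClosure
import Mathlib.RingTheory.IntegralClosure.IntegrallyClosed
import Mathlib.RingTheory.Ideal.GoingUp
import Mathlib.RingTheory.MvPolynomial.Basic
import Mathlib.RingTheory.Polynomial.Basic
import Mathlib.AlgebraicGeometry.FunctionField
import Mathlib.AlgebraicGeometry.Morphisms.ClosedImmersion
import Mathlib.Algebra.MvPolynomial.CommRing

/-! # Integral closures in products of algebraically closed fields -/

universe u

open CategoryTheory AlgebraicGeometry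

set_option autoImplicit false
set_option linter.style.haveILetI false
set_option backward.isDefEq.respectTransparency.types false

namespace Groth.L27.AffineEfface

variable (A : Type u) [CommRing A] {S : Type u} (K : S → Type u) [∀ s, Field (K s)]
  [∀ s, Algebra A (K s)]

/-- The integral closure of the base in a product of fields. -/
abbrev PR : Subalgebra A (∀ s, K s) := integralClosure A (∀ s, K s)

/-- The coordinates. -/
def coord (s : S) : PR A K →+* K s := (Pi.evalRingHom K s).comp (PR A K).val.toRingHom

theorem eq_zero_of_coord (r : PR A K) (h : ∀ s, coord A K s r = 0) : r = 0 :=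
  Subtype.ext (funext h)

theorem isReduced : IsReduced (PR A K) := ⟨fun r ⟨n, hn⟩ => eq_zero_of_coord A K r fun s => by
  have h : coord A K s r ^ n = 0 := by rw [← map_pow, hn, map_zero]
  exact eq_zero_of_pow_eq_zero h⟩

theorem exists_idempotent (T : Set S) :
    ∃ e : PR A K, IsIdempotentElem e ∧ ∀ s, (s ∈ T → coord A K s e = 1) ∧ (s ∉ T → coord A K s e = 0) := by
  classical
  let f : ∀ s, K s := fun s => if s ∈ T then 1 else 0
  have hf : f * f = f := funext fun s => by by_cases h : s ∈ T <;> simp [f, h]
  have hint : IsIntegral A f := ⟨.X ^ 2 - .X, Polynomial.monic_X_pow_sub (by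
    exact lt_of_le_of_lt Polynomial.degree_X_le (by decide)), by simp [pow_two, hf]⟩
  exact ⟨⟨f, hint⟩, Subtype.ext hf, fun s => ⟨fun h => by simp [coord, f, h], fun h => by simp [coord, f, h]⟩⟩

/-- The spectrum is a closed subscheme of a normal affine scheme with separably closed function field. -/
theorem exists_closedImmersion [∀ s, IsAlgClosed (K s)] :
    ∃ (T : Scheme.{u}) (_ : IsAffine T) (_ : IsIntegral T) (_ : IsSepClosed T.functionField)
      (j : Spec (CommRingCat.of (PR A K)) ⟶ T),
      IsClosedImmersion j ∧ ∀ x : T, IsIntegrallyClosed (T.presheaf.stalk x) := by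
  let P := MvPolynomial (PR A K) ℤ
  let L := AlgebraicClosure (FractionRing P)
  haveI : Algebra.IsAlgebraic P L := by
    haveI : Algebra.IsAlgebraic P (FractionRing P) := IsLocalization.isAlgebraic _ (nonZeroDivisors P)
    exact Algebra.IsAlgebraic.trans P (FractionRing P) L
  let P' := integralClosure P L
  have hinjL : Function.Injective (algebraMap P L) := fun a b h => by
    refine IsFractionRing.injective P (FractionRing P) ((algebraMap (FractionRing P) L).injective ?_)
    rw [← IsScalarTower.algebraMap_apply, ← IsScalarTower.algebraMap_apply]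
    exact h
  haveI : IsFractionRing P' L := integralClosure.isFractionRing_of_algebraic fun x hx =>
    hinjL (hx.trans (map_zero _).symm)
  haveI : IsIntegrallyClosed P' :=
    (isIntegrallyClosed_iff L).2 fun {x} hx => ⟨⟨x, isIntegral_trans (A := P') x hx⟩, rfl⟩
  have hinj : Function.Injective (algebraMap P P') := fun a b h => hinjL (congrArg Subtype.val h)
  let σ : P →+* PR A K := MvPolynomial.eval₂Hom (Int.castRingHom (PR A K)) id
  have hext : ∀ s, ∃ τ : P' →+* K s, τ.comp (algebraMap P P') = (coord A K s).comp σ := by
    intro s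
    let ρ : P →+* K s := (coord A K s).comp σ
    haveI : (RingHom.ker ρ).IsPrime := RingHom.ker_isPrime ρ
    obtain ⟨Q, hQ, hQp⟩ := Ideal.exists_ideal_over_prime_of_isIntegral_of_isDomain (S := P')
      (RingHom.ker ρ) (by rw [(RingHom.injective_iff_ker_eq_bot _).1 hinj]; exact bot_le)
    haveI := hQ
    let q := Q.comap (algebraMap P P')
    haveI : q.IsPrime := inferInstanceAs (Ideal.IsPrime (Q.comap _))
    letI : Algebra (P ⧸ q) (K s) := (Ideal.Quotient.lift q ρ fun a ha => by
      rw [← RingHom.mem_ker, ← hQp]; exact ha).toAlgebra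
    haveI : Algebra.IsIntegral (P ⧸ q) (P' ⧸ Q) := inferInstance
    haveI : Algebra.IsAlgebraic (P ⧸ q) (P' ⧸ Q) := Algebra.IsIntegral.isAlgebraic
    haveI : FaithfulSMul (P ⧸ q) (P' ⧸ Q) :=
      (faithfulSMul_iff_algebraMap_injective _ _).2 (Ideal.algebraMap_quotient_injective (I := Q))
    haveI : FaithfulSMul (P ⧸ q) (K s) := (faithfulSMul_iff_algebraMap_injective _ _).2 (by
      rw [injective_iff_map_eq_zero]
      intro x hx
      obtain ⟨a, rfl⟩ := Ideal.Quotient.mk_surjective x
      rw [RingHom.algebraMap_toAlgebra, Ideal.Quotient.lift_mk] at hx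
      rw [Ideal.Quotient.eq_zero_iff_mem]
      show a ∈ Q.comap (algebraMap P P')
      rw [hQp]
      exact hx)
    let ε : (P' ⧸ Q) →ₐ[P ⧸ q] K s := IsAlgClosed.lift
    refine ⟨ε.toRingHom.comp (Ideal.Quotient.mk Q), RingHom.ext fun a => ?_⟩
    exact ε.commutes (Ideal.Quotient.mk q a)
  choose τ hτ using hext
  let τπ : P' →+* ∀ s, K s := RingHom.pi τ
  have hR : ∀ x, τπ x ∈ PR A K := fun x => by
    obtain ⟨g, hg, hgx⟩ : IsIntegral P x := Algebra.IsIntegral.isIntegral x
    refine isIntegral_trans (R := A) (A := PR A K) _ ⟨g.map σ, hg.map σ, ?_⟩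
    have hc : (algebraMap (PR A K) (∀ s, K s)).comp σ = τπ.comp (algebraMap P P') :=
      RingHom.ext fun a => funext fun s => (RingHom.congr_fun (hτ s) a).symm
    rw [Polynomial.eval₂_map, hc, ← Polynomial.hom_eval₂, hgx, map_zero]
  let τR : P' →+* PR A K := τπ.codRestrict (PR A K).toSubring hR
  have hsurj : Function.Surjective τR := fun r => ⟨algebraMap P P' (MvPolynomial.X r), Subtype.ext
    (funext fun s => (RingHom.congr_fun (hτ s) (MvPolynomial.X r)).trans (by
      show coord A K s (σ (MvPolynomial.X r)) = r.1 s
      rw [show σ (MvPolynomial.X r) = r from MvPolynomial.eval₂Hom_X' _ _ _]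
      rfl))⟩
  let T := Spec (CommRingCat.of P')
  have hN : ∀ x : T, IsIntegrallyClosed (T.presheaf.stalk x) := fun x => by
    letI : Algebra P' (T.presheaf.stalk x) := StructureSheaf.stalkAlgebra P' x
    haveI : IsLocalization.AtPrime (T.presheaf.stalk x) (x : PrimeSpectrum P').asIdeal :=
      StructureSheaf.IsLocalization.to_stalk P' x
    have hle := Ideal.primeCompl_le_nonZeroDivisors (x : PrimeSpectrum P').asIdeal
    haveI := IsLocalization.isDomain_of_le_nonZeroDivisors (M := (x : PrimeSpectrum P').asIdeal.primeCompl)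
      (S := T.presheaf.stalk x) hle
    exact isIntegrallyClosed_of_isLocalization _ _ hle
  letI : Algebra P' T.functionField := instAlgebraCarrierFunctionFieldSpec (CommRingCat.of P')
  haveI : IsFractionRing P' T.functionField := functionField_isFractionRing_of_affine (CommRingCat.of P')
  haveI : IsSepClosed T.functionField := Groth.L27.StrictCover.isSepClosed_of_ringEquiv
    (IsLocalization.algEquiv (nonZeroDivisors P') L T.functionField).toRingEquiv
  exact ⟨T, inferInstance, inferInstance, inferInstance, Spec.map (CommRingCat.ofHom τR),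
    IsClosedImmersion.spec_of_surjective _ hsurj, hN⟩

end Groth.L27.AffineEfface
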